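import Groth.Agent.RegLoc6.Serre
import Mathlib

/-!
# Regular local rings are factorial (Auslander–Buchsbaum)
-/

set_option autoImplicit false

universe u

namespace Groth.Agent.RegUFD

open IsLocalRing

variable {A : Type u} [CommRing A]

/-- A projective localisation of a finite module of finite projective dimension over a local
Noetherian ring is stably free. -/
theorem isStablyFree_localized [IsLocalRing A] [IsNoetherianRing A] (S : Submonoid A) :
    ∀ (n : ℕ) (M : Type u) [AddCommGroup M] [Module A M] [Module.Finite A M],
      RegLoc6.PdLE A n M → Module.Projective (Localization S) (LocalizedModule S M) →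
      Module.IsStablyFree (Localization S) (LocalizedModule S M) := by
  intro n
  induction n with
  | zero =>
    intro M _ _ _ h _
    have : Module.Projective A M := RegLoc6.pdLE_zero_iff.1 h
    have : Module.FinitePresentation A M := Module.finitePresentation_of_finite A M
    have : Module.Free A M := Module.free_of_flat_of_isLocalRing
    have : Module.Free (Localization S) (LocalizedModule S M) :=
      Module.free_of_isLocalizedModule S (LocalizedModule.mkLinearMap S M)
    infer_instance
  | succ n ih =>
    intro M _ _ _ h hproj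
    obtain ⟨m, g, hg⟩ := RegLoc6.exists_presentation (R := A) (M := M)
    have hK := (RegLoc6.pdLE_succ_iff g hg).1 h
    set K := LinearMap.ker g
    let ι : LocalizedModule S K →ₗ[Localization S] LocalizedModule S (Fin m → A) :=
      LocalizedModule.map S K.subtype
    let ĝ : LocalizedModule S (Fin m → A) →ₗ[Localization S] LocalizedModule S M :=
      LocalizedModule.map S g
    have hex : Function.Exact ι ĝ :=
      LocalizedModule.map_exact S _ _ (LinearMap.exact_subtype_ker_map g)
    have hι : Function.Injective ι := LocalizedModule.map_injective S _ Subtype.val_injective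
    have hĝ : Function.Surjective ĝ := LocalizedModule.map_surjective S _ hg
    obtain ⟨l, hl⟩ := Module.projective_lifting_property ĝ LinearMap.id hĝ
    obtain ⟨e, he⟩ := (Function.Exact.splitSurjectiveEquiv (R := Localization S) (M := LocalizedModule S K)
      (N := LocalizedModule S (Fin m → A)) (P := LocalizedModule S M) (f := ι) (g := ĝ) hex hι) ⟨l, hl⟩
    have hF : Module.Free (Localization S) (LocalizedModule S (Fin m → A)) :=
      Module.free_of_isLocalizedModule S (LocalizedModule.mkLinearMap S (Fin m → A))
    have hFfin : Module.Finite (Localization S) (LocalizedModule S (Fin m → A)) :=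
      Module.Finite.of_isLocalizedModule S (LocalizedModule.mkLinearMap S (Fin m → A))
    have hKproj : Module.Projective (Localization S) (LocalizedModule S K) := by
      have : Module.Projective (Localization S) (LocalizedModule S K × LocalizedModule S M) :=
        Module.Projective.of_equiv e
      exact Module.Projective.of_split
        (LinearMap.inl (Localization S) (LocalizedModule S K) (LocalizedModule S M))
        (LinearMap.fst (Localization S) (LocalizedModule S K) (LocalizedModule S M)) rfl
    have hsf := ih K hK hKproj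
    obtain ⟨N, _, _, _, _, hfree⟩ :=
      @Module.IsStablyFree.exist_free_prod (Localization S) _ (LocalizedModule S K) _ _ hsf
    have e' : (LocalizedModule S (Fin m → A) × N) ≃ₗ[Localization S]
        (LocalizedModule S M × (LocalizedModule S K × N)) :=
      ((e.trans (LinearEquiv.prodComm _ _ _)).prodCongr (LinearEquiv.refl _ N)).trans
        (LinearEquiv.prodAssoc _ _ _ _)
    have : Module.Finite (Localization S) (LocalizedModule S K) :=
      Module.Finite.of_isLocalizedModule S (LocalizedModule.mkLinearMap S K)
    have : Module.Free (Localization S) (LocalizedModule S M × (LocalizedModule S K × N)) :=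
      Module.Free.of_equiv e'
    exact Module.IsStablyFree.of_free_prod (Localization S) (LocalizedModule S M) (LocalizedModule S K × N)

/-- Auslander–Buchsbaum, by induction on the embedding dimension. -/
theorem ufd_aux : ∀ (n : ℕ) (A : Type u) [CommRing A] [IsRegularLocalRing A] [IsDomain A],
    (maximalIdeal A).spanFinrank ≤ n → UniqueFactorizationMonoid A := by
  intro n
  classical
  induction n using Nat.strong_induction_on with
  | _ n ih =>
  intro A _ _ _ hn
  by_cases hf : IsField A
  · let : Field A := hf.toField
    infer_instance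
  obtain ⟨x, hx, hx2⟩ := SetLike.not_le_iff_exists.mp (RegLoc6.maximalIdeal_sq_ne hf)
  haveI := RegLoc6.isLocalRing_quot hx
  haveI := (RegLoc6.isRegularLocalRing_quot_and hx hx2).1
  haveI := RegLoc6.isDomain_of_isRegularLocalRing (A ⧸ Ideal.span {x})
  have hx0 : x ≠ 0 := fun h => hx2 (h ▸ zero_mem _)
  have hxp : Prime x := by
    rw [← Ideal.span_singleton_prime hx0]
    exact (Ideal.Quotient.isDomain_iff_prime _).1 inferInstance
  rw [UniqueFactorizationMonoid.iff_exists_prime_mem_of_isPrime]
  intro P hP hPp
  by_cases hxP : x ∈ P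
  · exact ⟨x, hxP, hxp⟩
  -- a prime of height one inside `P`
  obtain ⟨a, haP, ha0⟩ := Submodule.exists_mem_ne_zero_of_ne_bot hP
  obtain ⟨q, hqm, hqP⟩ := Ideal.exists_minimalPrimes_le ((Ideal.span_singleton_le_iff_mem P).2 haP)
  haveI hq : q.IsPrime := hqm.1.1
  have haq : a ∈ q := hqm.1.2 (Ideal.mem_span_singleton_self a)
  have hq1 : q.height ≤ 1 :=
    Ideal.height_le_one_of_isPrincipal_of_mem_minimalPrimes (Ideal.span {a}) q hqm
  have hqmin : ∀ q' : Ideal A, q'.IsPrime → q' ≠ ⊥ → q' ≤ q → q' = q := by
    intro q' hq' hne hle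
    by_contra hneq
    have hlt : q' < q := lt_of_le_of_ne hle hneq
    have h0 : (⊥ : Ideal A) < q' := bot_lt_iff_ne_bot.2 hne
    haveI := hq'
    have h1 := Ideal.height_add_one_le_of_lt_of_isPrime h0
    have h2 := Ideal.height_add_one_le_of_lt_of_isPrime hlt
    rw [Ideal.height_bot, zero_add] at h1
    have h3 : (2 : ℕ∞) ≤ 1 :=
      le_trans (le_trans (by rw [show (2 : ℕ∞) = 1 + 1 from rfl]; exact add_le_add h1 le_rfl) h2) hq1
    exact absurd h3 (by decide)
  have hxq : x ∉ q := fun h => hxP (hqP h)
  -- local principality
  have hloc : ∀ p : Ideal A, p.IsPrime → x ∉ p →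
      ∃ π ∈ q, π ≠ 0 ∧ ∃ s ∉ p, ∀ b ∈ q, ∃ c, s * b = c * π := by
    intro p hp hxp'
    by_cases hqp : q ≤ p
    swap
    · obtain ⟨s, hsq, hsp⟩ := SetLike.not_le_iff_exists.1 hqp
      exact ⟨s, hsq, fun h => hsp (h ▸ zero_mem p), s, hsp, fun b _ => ⟨b, mul_comm s b⟩⟩
    have hpm : p < maximalIdeal A := lt_of_le_of_ne (IsLocalRing.le_maximalIdeal hp.ne_top)
      (fun h => hxp' (h ▸ hx))
    have hreg : IsRegularLocalRing (Localization.AtPrime p) := RegLoc6.isRegularLocalRing_localization A p
    have hufd : UniqueFactorizationMonoid (Localization.AtPrime p) := by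
      refine ih (maximalIdeal (Localization.AtPrime p)).spanFinrank ?_ (Localization.AtPrime p) le_rfl
      have h1 := (isRegularLocalRing_iff (Localization.AtPrime p)).1 hreg
      have h2 := (isRegularLocalRing_iff A).1 inferInstance
      have h3 : ringKrullDim (Localization.AtPrime p) < ringKrullDim A := by
        rw [IsLocalization.AtPrime.ringKrullDim_eq_height p (Localization.AtPrime p),
          ← IsLocalRing.maximalIdeal_height_eq_ringKrullDim]
        have : p.FiniteHeight := Ideal.finiteHeight_of_isNoetherianRing p
        exact WithBot.coe_lt_coe.2 (Ideal.height_strict_mono_of_isPrime hpm)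
      rw [← h1, ← h2] at h3
      have : (maximalIdeal (Localization.AtPrime p)).spanFinrank < (maximalIdeal A).spanFinrank := by
        exact_mod_cast h3
      omega
    set q' := q.map (algebraMap A (Localization.AtPrime p))
    have hdisj : Disjoint (p.primeCompl : Set A) (q : Set A) :=
      Set.disjoint_left.2 fun y hy hyq => hy (hqp hyq)
    have hq' : q'.IsPrime := IsLocalization.isPrime_of_isPrime_disjoint p.primeCompl _ q hq hdisj
    have hinj : Function.Injective (algebraMap A (Localization.AtPrime p)) :=
      IsLocalization.injective _ (Ideal.primeCompl_le_nonZeroDivisors p)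
    have hq'0 : q' ≠ ⊥ := fun h => ha0 (hinj (by
      rw [map_zero, ← Ideal.mem_bot (R := Localization.AtPrime p), ← h]
      exact Ideal.mem_map_of_mem _ haq))
    obtain ⟨z, hz, hzp⟩ := hq'.exists_mem_prime_of_ne_bot hq'0
    obtain ⟨π, s₀, rfl⟩ := IsLocalization.exists_mk'_eq p.primeCompl z
    have hπ : Prime (algebraMap A (Localization.AtPrime p) π) := by
      rw [← IsLocalization.mk'_spec (Localization.AtPrime p) π s₀]
      exact (associated_mul_unit_right _ _ (IsLocalization.map_units _ s₀)).prime hzp
    have hπq : π ∈ q := by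
      rw [← IsLocalization.comap_map_of_isPrime_disjoint p.primeCompl (Localization.AtPrime p) hq hdisj,
        Ideal.mem_comap, ← IsLocalization.mk'_spec (Localization.AtPrime p) π s₀]
      exact Ideal.mul_mem_right _ _ hz
    have hprime := (Ideal.span_singleton_prime hπ.ne_zero).2 hπ
    set q'' := (Ideal.span {algebraMap A (Localization.AtPrime p) π}).comap
      (algebraMap A (Localization.AtPrime p))
    have hq'' : q'' = q := hqmin q'' (hprime.comap _) (fun h => hπ.ne_zero (by
        have hmem : π ∈ q'' := Ideal.mem_span_singleton_self _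
        rw [h, Ideal.mem_bot] at hmem
        rw [hmem, map_zero])) (by
        rw [← IsLocalization.comap_map_of_isPrime_disjoint p.primeCompl (Localization.AtPrime p) hq hdisj]
        exact Ideal.comap_mono ((Ideal.span_singleton_le_iff_mem _).2 (Ideal.mem_map_of_mem _ hπq)))
    have hb : ∀ b ∈ q, ∃ s ∉ p, ∃ c, s * b = c * π := by
      intro b hb
      rw [← hq''] at hb
      obtain ⟨w, hw⟩ := Ideal.mem_span_singleton'.1 (Ideal.mem_comap.1 hb)
      obtain ⟨c, s, rfl⟩ := IsLocalization.exists_mk'_eq p.primeCompl w
      refine ⟨s, s.2, c, hinj ?_⟩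
      rw [map_mul, map_mul, ← hw, ← IsLocalization.mk'_spec (Localization.AtPrime p) c s]
      ring
    let I : Ideal A :=
      { carrier := {s | ∀ b ∈ q, s * b ∈ Ideal.span {π}}
        add_mem' := fun hs ht b hb => by rw [add_mul]; exact add_mem (hs b hb) (ht b hb)
        zero_mem' := fun b _ => by rw [zero_mul]; exact zero_mem _
        smul_mem' := fun c s hs b hb => by
          rw [smul_eq_mul, mul_assoc]; exact Ideal.mul_mem_left _ _ (hs b hb) }
    obtain ⟨G, hG⟩ := (IsNoetherian.noetherian q : q.FG)
    choose! s hsp hsc using hb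
    refine ⟨π, hπq, fun h => hπ.ne_zero (by rw [h, map_zero]), ∏ b ∈ G, s b,
      fun h => ?_, fun b hb => ?_⟩
    · obtain ⟨b, hb, hbp⟩ := hp.prod_mem_iff.1 h
      exact hsp b (hG ▸ Submodule.subset_span hb) hbp
    · have hle : q ≤ Submodule.comap (LinearMap.mulLeft A (∏ b ∈ G, s b)) (Ideal.span {π}) := by
        conv_lhs => rw [← hG]
        rw [Submodule.span_le]
        intro b hbG
        have hbq : b ∈ q := hG ▸ Submodule.subset_span hbG
        obtain ⟨c, hc⟩ := hsc b hbq
        rw [SetLike.mem_coe, Submodule.mem_comap, LinearMap.mulLeft_apply,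
          ← Finset.prod_erase_mul G s hbG, mul_assoc, hc, ← mul_assoc]
        exact Ideal.mem_span_singleton'.2 ⟨_, rfl⟩
      obtain ⟨c, hc⟩ := Ideal.mem_span_singleton'.1 (hle hb)
      exact ⟨c, hc.symm⟩
  -- invertibility away from `x`
  set J : Ideal A := (Ideal.span {a}).colon (q : Set A)
  have hT : x ∈ ((q * J).colon {a}).radical := by
    rw [Ideal.radical_eq_sInf, Ideal.mem_sInf]
    rintro p ⟨hTp, hp⟩
    by_contra hxp'
    obtain ⟨π, hπq, hπ0, s, hsp, hs⟩ := hloc p hp hxp'
    obtain ⟨c, hc⟩ := hs a haq
    refine hsp (hTp (Submodule.mem_colon_singleton.2 ?_))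
    rw [smul_eq_mul, hc, mul_comm c]
    refine Ideal.mul_mem_mul hπq (Submodule.mem_colon.2 fun b hb => ?_)
    obtain ⟨d, hd⟩ := hs b hb
    have hs0 : s ≠ 0 := fun h => hsp (h ▸ zero_mem p)
    have : c * b = d * a := by
      apply mul_left_cancel₀ hs0
      linear_combination c * hd - d * hc
    rw [smul_eq_mul, this]
    exact Ideal.mem_span_singleton'.2 ⟨d, rfl⟩
  obtain ⟨k, hk⟩ := hT
  rw [Submodule.mem_colon_singleton, smul_eq_mul] at hk
  let S := Submonoid.powers x
  have hS : S ≤ nonZeroDivisors A := powers_le_nonZeroDivisors_of_noZeroDivisors hx0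
  have : IsDomain (Localization S) := IsLocalization.isDomain_localization hS
  have hinjS : Function.Injective (algebraMap A (Localization S)) := IsLocalization.injective _ hS
  set Q : Ideal (Localization S) := q.map (algebraMap A (Localization S)) with hQ
  set α := algebraMap A (Localization S) a with hαdef
  have hα : α ≠ 0 := fun h => ha0 (hinjS (by rw [← hαdef, h, map_zero]))
  have hQJ : Q * J.map (algebraMap A (Localization S)) = Ideal.span {α} := by
    refine le_antisymm (Ideal.mul_le.2 fun u hu v hv => ?_) ?_
    · have h1 : Q * J.map (algebraMap A (Localization S)) ≤ Ideal.span {α} := by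
        rw [hQ, ← Ideal.map_mul, hαdef, ← Set.image_singleton, ← Ideal.map_span]
        refine Ideal.map_mono (Ideal.mul_le.2 fun b hb j hj => ?_)
        rw [mul_comm]
        exact Submodule.mem_colon.1 hj b hb
      exact h1 (Ideal.mul_mem_mul hu hv)
    · rw [Ideal.span_singleton_le_iff_mem, hQ, ← Ideal.map_mul]
      have hu : IsUnit (algebraMap A (Localization S) (x ^ k)) :=
        IsLocalization.map_units (Localization S) (⟨x ^ k, pow_mem (Submonoid.mem_powers x) k⟩ : S)
      refine (Ideal.unit_mul_mem_iff_mem _ hu).1 ?_
      rw [hαdef, ← map_mul]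
      exact Ideal.mem_map_of_mem _ hk
  let F := FractionRing (Localization S)
  have hαF : algebraMap (Localization S) F α ≠ 0 := fun h => hα (IsFractionRing.injective _ F (by rw [h, map_zero]))
  let Qf : Submodule (Localization S) F := Submodule.map (Algebra.linearMap (Localization S) F) Q
  have hQf : IsUnit Qf := by
    refine .of_mul_eq_one (Submodule.map (Algebra.linearMap (Localization S) F)
      (J.map (algebraMap A (Localization S))) * Submodule.span (Localization S) {(algebraMap (Localization S) F α)⁻¹}) ?_
    rw [← mul_assoc]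
    change (Submodule.map (Algebra.ofId (Localization S) F).toLinearMap Q *
      Submodule.map (Algebra.ofId (Localization S) F).toLinearMap _) * _ = 1
    rw [← Submodule.map_mul, hQJ, Ideal.submodule_span_eq.symm, Submodule.map_span, Set.image_singleton,
      Submodule.span_mul_span, Set.singleton_mul_singleton, Submodule.one_eq_span]
    congr 2
    exact mul_inv_cancel₀ hαF
  obtain ⟨U, hU⟩ := hQf
  have hinv : Module.Invertible (Localization S) Qf := hU ▸ inferInstanceAs (Module.Invertible (Localization S) (U : Submodule (Localization S) F))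
  let eQ : Q ≃ₗ[Localization S] Qf :=
    Submodule.equivMapOfInjective _ (IsFractionRing.injective (Localization S) F) Q
  have hinvQ : Module.Invertible (Localization S) Q := Module.Invertible.congr eQ.symm
  -- `Q` is free
  haveI : IsLocalizedModule S (Algebra.idealMap (Localization S) q) := Algebra.idealMap_isLocalizedModule (Localization S) S q
  let eL : LocalizedModule S q ≃ₗ[Localization S] Q :=
    (IsLocalizedModule.linearEquiv S (LocalizedModule.mkLinearMap S q)
      (Algebra.idealMap (Localization S) q)).extendScalarsOfIsLocalization S (Localization S)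
  have : Module.Projective (Localization S) (LocalizedModule S q) := Module.Projective.of_equiv eL.symm
  have hsf := isStablyFree_localized S _ q (RegLoc6.pdLE_of_isRegularLocalRing A q) inferInstance
  have : Module.IsStablyFree (Localization S) Q := Module.IsStablyFree.equiv eL
  have : Module.Free (Localization S) Q := Module.free_of_isStablyFree_of_invertible (Localization S) Q
  obtain ⟨eB⟩ := (Module.Invertible.free_iff_linearEquiv (R := Localization S) (M := Q)).1 this
  -- descend the generator
  obtain ⟨g, t, hgt⟩ := IsLocalization.exists_mk'_eq S ((eB.symm 1 : Q) : Localization S)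
  have hgen : ∀ b ∈ Q, ∃ c, b = c * algebraMap A (Localization S) g := by
    intro b hb
    refine ⟨eB ⟨b, hb⟩ * IsLocalization.mk' (Localization S) 1 t, ?_⟩
    have h1 : (eB ⟨b, hb⟩ • eB.symm 1 : Q) = ⟨b, hb⟩ := eB.injective (by simp)
    have h2 := congrArg Subtype.val h1
    simp only [SetLike.val_smul, smul_eq_mul] at h2
    rw [mul_assoc, mul_comm _ (algebraMap A (Localization S) g), IsLocalization.mul_mk'_eq_mk'_of_mul, mul_one, hgt]
    exact h2.symm
  have hdisjS : Disjoint (S : Set A) (q : Set A) := Set.disjoint_left.2 fun y hy hyq => by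
    obtain ⟨j, rfl⟩ := hy
    exact hxq (hq.mem_of_pow_mem j hyq)
  have hgq : g ∈ q := by
    rw [← IsLocalization.comap_map_of_isPrime_disjoint S (Localization S) hq hdisjS, Ideal.mem_comap,
      ← IsLocalization.mk'_spec (Localization S) g t, hgt]
    exact Ideal.mul_mem_right _ _ (eB.symm 1).2
  have hg0 : g ≠ 0 := by
    intro h
    obtain ⟨c, hc⟩ := hgen α (Ideal.mem_map_of_mem _ haq)
    exact hα (by rw [hc, h, map_zero, mul_zero])
  obtain ⟨j, g', hxg', hgg'⟩ := WfDvdMonoid.max_power_factor hg0 hxp.irreducible
  have hg'q : g' ∈ q := (hq.mem_or_mem (hgg' ▸ hgq)).resolve_left fun h => hxq (hq.mem_of_pow_mem j h)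
  have hgenA : q = Ideal.span {g'} := by
    refine le_antisymm (fun b hb => ?_) ((Ideal.span_singleton_le_iff_mem _).2 hg'q)
    obtain ⟨c, hc⟩ := hgen _ (Ideal.mem_map_of_mem _ hb)
    obtain ⟨c', ⟨_, i, rfl⟩, rfl⟩ := IsLocalization.exists_mk'_eq S c
    have h1 : x ^ i * b = c' * g := by
      apply hinjS
      rw [map_mul, map_mul, hc, ← IsLocalization.mk'_spec (Localization S) c' (⟨x ^ i, pow_mem (Submonoid.mem_powers x) i⟩ : S)]
      ring
    rw [hgg', ← mul_assoc] at h1
    obtain ⟨d, hd⟩ := hxp.pow_dvd_of_dvd_mul_right i hxg' ⟨b, h1.symm⟩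
    refine Ideal.mem_span_singleton'.2 ⟨d, mul_left_cancel₀ (pow_ne_zero i hx0) ?_⟩
    rw [h1, hd]
    ring
  refine ⟨g', hqP hg'q, (Ideal.span_singleton_prime fun h => ha0 ?_).1 (hgenA ▸ hq)⟩
  have := hgenA ▸ haq
  rwa [h, Ideal.span_singleton_zero, Ideal.mem_bot] at this

/-- A regular local ring is a unique factorisation domain. -/
theorem ufd (A : Type u) [CommRing A] [IsRegularLocalRing A] :
    IsDomain A ∧ UniqueFactorizationMonoid A := by
  have := RegLoc6.isDomain_of_isRegularLocalRing A
  exact ⟨this, ufd_aux _ A le_rfl⟩

end Groth.Agent.RegUFD
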